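import Groth.Agent.DRingLib.PCohResolution

/-!
# Finite free complexes approximating up to torsion

A variant of the resolution of pseudo-coherent objects: cohomology is killed up to torsion with respect to
finitely many elements.
-/

set_option autoImplicit false
set_option maxHeartbeats 1000000
set_option linter.style.haveILetI false
set_option backward.isDefEq.respectTransparency false
set_option backward.isDefEq.respectTransparency.types false

universe u

open CategoryTheory CategoryTheory.Limits HomologicalComplex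
open CochainComplex (mappingCone)
open CochainComplex.HomComplex

attribute [local instance] HasDerivedCategory.standard

namespace Groth.Agent.PCExtLib

open Groth.Agent.DRingLib (IsBddFree isBddFree_single isIso_coneMap_f)

variable {R : Type u} [CommRing R]

/-- Every cycle in degree `i` is a boundary up to powers of each element of the list. -/
def TorsAt (fs : List R) (C : CochainComplex (ModuleCat.{u} R) ℤ) (i : ℤ) : Prop :=
  ∀ f ∈ fs, ∀ z : C.X i, (C.d i (i + 1)).hom z = 0 →
    ∃ (e : ℕ) (y : C.X (i - 1)), f ^ e • z = (C.d (i - 1) i).hom y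

/-- Finitely many cycles generate in degree `i` up to powers of each element of the list. -/
def GenAt (fs : List R) (C : CochainComplex (ModuleCat.{u} R) ℤ) (m : ℤ) : Prop :=
  ∃ (k : ℕ) (Z : ModuleCat.of R (Fin k → R) ⟶ C.X m), Z ≫ C.d m (m + 1) = 0 ∧
    ∀ f ∈ fs, ∀ z : C.X m, (C.d m (m + 1)).hom z = 0 →
      ∃ (e : ℕ) (c : Fin k → R) (y : C.X (m - 1)), f ^ e • z = Z.hom c + (C.d (m - 1) m).hom y

/-- The class of a cycle. -/
theorem exists_class (C : CochainComplex (ModuleCat.{u} R) ℤ) (m : ℤ) :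
    ∃ q : LinearMap.ker (C.d m (m + 1)).hom →ₗ[R] C.homology m, Function.Surjective q ∧
      ∀ z, q z = 0 ↔ ∃ y : C.X (m - 1), z.1 = (C.d (m - 1) m).hom y := by
  let S := C.sc' (m - 1) m (m + 1)
  let e : C.homology m ≅ S.moduleCatLeftHomologyData.H :=
    ShortComplex.homologyMapIso (C.isoSc' (m - 1) m (m + 1) (by simp) (by simp)) ≪≫
      S.moduleCatHomologyIso
  let q : LinearMap.ker S.g.hom →ₗ[R] C.homology m :=
    e.toLinearEquiv.symm.toLinearMap ∘ₗ (LinearMap.range S.moduleCatToCycles).mkQ
  refine ⟨q, e.toLinearEquiv.symm.surjective.comp (Submodule.mkQ_surjective _), fun z => ?_⟩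
  refine (LinearEquiv.map_eq_zero_iff e.toLinearEquiv.symm).trans ?_
  refine (Submodule.Quotient.mk_eq_zero _).trans ⟨?_, ?_⟩
  · rintro ⟨y, hy⟩
    exact ⟨y, (congrArg Subtype.val hy).symm⟩
  · rintro ⟨y, hy⟩
    exact ⟨y, Subtype.ext hy.symm⟩

theorem torsAt_iff (fs : List R) (C : CochainComplex (ModuleCat.{u} R) ℤ) (i : ℤ) :
    TorsAt fs C i ↔ ∀ f ∈ fs, ∀ x : C.homology i, ∃ e : ℕ, f ^ e • x = 0 := by
  obtain ⟨q, hq, hq0⟩ := exists_class C i
  constructor
  · intro h f hf x
    obtain ⟨z, rfl⟩ := hq x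
    obtain ⟨e, y, hy⟩ := h f hf z.1 (LinearMap.mem_ker.1 z.2)
    exact ⟨e, (map_smul q (f ^ e) z).symm.trans ((hq0 _).2 ⟨y, hy⟩)⟩
  · intro h f hf z hz
    obtain ⟨e, he⟩ := h f hf (q ⟨z, hz⟩)
    obtain ⟨y, hy⟩ := (hq0 _).1 ((map_smul q (f ^ e) ⟨z, hz⟩).trans he)
    exact ⟨e, y, hy⟩

theorem genAt_of_finset (fs : List R) (C : CochainComplex (ModuleCat.{u} R) ℤ) (m : ℤ)
    (S : Finset (C.homology m))
    (h : ∀ f ∈ fs, ∀ x : C.homology m, ∃ e : ℕ, f ^ e • x ∈ Submodule.span R (S : Set (C.homology m))) :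
    GenAt fs C m := by
  classical
  obtain ⟨q, hq, hq0⟩ := exists_class C m
  choose g hg using hq
  let v : Fin S.toList.length → LinearMap.ker (C.d m (m + 1)).hom := fun t => g (S.toList.get t)
  let ψ := Fintype.linearCombination R v
  refine ⟨_, ModuleCat.ofHom ((LinearMap.ker (C.d m (m + 1)).hom).subtype ∘ₗ ψ), ?_, fun f hf z hz => ?_⟩
  · ext1
    exact LinearMap.ext fun c => LinearMap.mem_ker.1 (ψ c).2
  · obtain ⟨e, he⟩ := h f hf (q ⟨z, hz⟩)
    have hle : Submodule.span R (S : Set (C.homology m)) ≤ LinearMap.range (q ∘ₗ ψ) := by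
      refine Submodule.span_le.2 fun a ha => ?_
      obtain ⟨t, ht⟩ := List.get_of_mem (Finset.mem_toList.2 ha)
      refine ⟨Pi.single t 1, ?_⟩
      simp [ψ, v, Fintype.linearCombination_apply_single, ← ht, hg]
    obtain ⟨c, hc⟩ := hle he
    obtain ⟨y, hy⟩ := (hq0 (f ^ e • (⟨z, hz⟩ : LinearMap.ker (C.d m (m + 1)).hom) - ψ c)).1 (by
      rw [map_sub, map_smul, sub_eq_zero]
      exact hc.symm)
    refine ⟨e, c, y, ?_⟩
    change f ^ e • z = (show C.X m from (ψ c).1) + _
    change f ^ e • z - (show C.X m from (ψ c).1) = (C.d (m - 1) m).hom y at hy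
    rw [← hy, add_sub_cancel]

theorem TorsAt.of_isZero {fs : List R} {C : CochainComplex (ModuleCat.{u} R) ℤ} {i : ℤ}
    (h : IsZero (C.homology i)) : TorsAt fs C i :=
  (torsAt_iff fs C i).2 fun f _ x => ⟨0, by
    haveI := ModuleCat.subsingleton_of_isZero h
    exact Subsingleton.elim _ _⟩

/-- A map invertible in three consecutive degrees preserves torsion cohomology in the middle one. -/
theorem TorsAt.of_isIso_f {fs : List R} {K L : CochainComplex (ModuleCat.{u} R) ℤ} (J : K ⟶ L) (i : ℤ)
    (h₂ : IsIso (J.f i)) (h₃ : IsIso (J.f (i + 1)))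
    (h : TorsAt fs K i) : TorsAt fs L i := by
  intro f hf z' hz'
  let z := (inv (J.f i)).hom z'
  have hz : (J.f i).hom z = z' := congr($(IsIso.inv_hom_id (J.f i)).hom z')
  have hdz : (K.d i (i + 1)).hom z = 0 := by
    refine ((ModuleCat.mono_iff_injective (J.f (i + 1))).1 inferInstance) ?_
    rw [map_zero]
    refine (congr($(J.comm i (i + 1)).hom z)).symm.trans ?_
    change (L.d i (i + 1)).hom ((J.f i).hom z) = 0
    rw [hz]
    exact hz'
  obtain ⟨e, y, hy⟩ := h f hf z hdz
  refine ⟨e, (J.f (i - 1)).hom y, ?_⟩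
  rw [← hz, ← map_smul, hy]
  exact (congr($(J.comm (i - 1) i).hom y)).symm

/-- One step: kill the cohomology of the cone in degree `m` by attaching finitely many cells. -/
theorem attach {E P : CochainComplex (ModuleCat.{u} R) ℤ} (f : E ⟶ P) (hE : IsBddFree E) (m : ℤ)
    {fs : List R} (hex : ∀ i, m < i → TorsAt fs (mappingCone f) i)
    (hfin : GenAt fs (mappingCone f) m) :
    ∃ (E' : CochainComplex (ModuleCat.{u} R) ℤ) (j : E ⟶ E') (f' : E' ⟶ P),
      j ≫ f' = f ∧ IsBddFree E' ∧ (∀ i, m < i → IsIso (j.f i)) ∧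
        ∀ i, m ≤ i → TorsAt fs (mappingCone f') i := by
  obtain ⟨k, Z, hZd, hZ⟩ := hfin
  let Fm := ModuleCat.of R (Fin k → R)
  let F := (single (ModuleCat.{u} R) (ComplexShape.up ℤ) (m + 1)).obj Fm
  let g₀ : Fm ⟶ E.X (m + 1) := Z ≫ (CochainComplex.mappingCone.fst f).1.v m (m + 1) rfl
  let q : Fm ⟶ P.X m := Z ≫ (CochainComplex.mappingCone.snd f).v m m (add_zero m)
  have hg₀ : g₀ ≫ E.d (m + 1) (m + 1 + 1) = 0 := by
    have := congrArg (· ≫ (CochainComplex.mappingCone.fst f).1.v (m + 1) (m + 1 + 1) rfl) hZd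
    simp only [Category.assoc, zero_comp,
      CochainComplex.mappingCone.d_fst_v f m (m + 1) (m + 1 + 1) rfl rfl, Preadditive.comp_neg,
      neg_eq_zero] at this
    simpa [g₀] using this
  have hq : q ≫ P.d m (m + 1) = -(g₀ ≫ f.f (m + 1)) := by
    have := congrArg (· ≫ (CochainComplex.mappingCone.snd f).v (m + 1) (m + 1) (add_zero _)) hZd
    simp only [Category.assoc, zero_comp, CochainComplex.mappingCone.d_snd_v f m (m + 1) rfl,
      Preadditive.comp_add] at this
    simp only [g₀, q, Category.assoc]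
    exact eq_neg_of_add_eq_zero_right this
  let g : F ⟶ E := mkHomFromSingle g₀ fun l hl => by
    obtain rfl : m + 1 + 1 = l := hl
    exact hg₀
  let α : Cochain F P (-1) :=
    Cochain.single ((singleObjXSelf (ComplexShape.up ℤ) (m + 1) Fm).hom ≫ (-q)) (-1)
  have hα : δ (-1) 0 α = Cochain.ofHom (g ≫ f) := by
    ext p : 1
    rw [δ_v (-1) 0 (by omega) α p p (add_zero p) (p - 1) (p + 1) rfl rfl, Cochain.ofHom_v,
      single_obj_d, zero_comp, smul_zero, add_zero, comp_f]
    by_cases hp : p = m + 1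
    · obtain rfl : m + 1 = p := hp.symm
      have gen : ∀ (m' : ℤ) (_ : m' = m) (h : m + 1 + (-1) = m'),
          α.v (m + 1) m' h ≫ P.d m' (m + 1) = g.f (m + 1) ≫ f.f (m + 1) := by
        rintro m' rfl h
        rw [Cochain.single_v, mkHomFromSingle_f, Category.assoc, Category.assoc,
          Preadditive.neg_comp, hq, neg_neg]
      exact gen _ (by omega) _
    · exact (isZero_single_obj_X (ComplexShape.up ℤ) (m + 1) Fm p hp).eq_of_src _ _
  let E' := mappingCone g
  let j : E ⟶ E' := CochainComplex.mappingCone.inr g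
  let f' : E' ⟶ P := CochainComplex.mappingCone.desc g α f hα
  have hj : ∀ i, m < i → IsIso (j.f i) := by
    intro i hi
    refine ⟨(CochainComplex.mappingCone.snd g).v i i (add_zero i),
      CochainComplex.mappingCone.inr_f_snd_v g i, ?_⟩
    refine (CochainComplex.mappingCone.ext_from_iff g (i + 1) i rfl _ _).mpr ⟨?_, ?_⟩
    · exact (isZero_single_obj_X (ComplexShape.up ℤ) (m + 1) Fm (i + 1) (by omega)).eq_of_src _ _
    · simp [j]
      exact (Category.comp_id _).symm
  have hjf : j ≫ f' = f := CochainComplex.mappingCone.inr_desc g α f hα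
  refine ⟨E', j, f', hjf, (isBddFree_single (m + 1) k).cone hE g, hj, ?_⟩
  let J : mappingCone f ⟶ mappingCone f' :=
    CochainComplex.mappingCone.map f f' j (𝟙 P) (by rw [Category.comp_id, hjf])
  have hJ : ∀ i, m ≤ i → IsIso (J.f i) := fun i hi => by
    have := hj (i + 1) (by omega)
    exact isIso_coneMap_f _ _ _ _ _ i
  intro i hi
  rcases hi.eq_or_lt with rfl | hi'
  swap
  · exact TorsAt.of_isIso_f J i (hJ _ hi) (hJ _ (by omega)) (hex i hi')
  · intro t ht z' hz'
    have := hJ m le_rfl
    have := hJ (m + 1) (by omega)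
    let z := (inv (J.f m)).hom z'
    have hz : (J.f m).hom z = z' := congr($(IsIso.inv_hom_id (J.f m)).hom z')
    have hdz : ((mappingCone f).d m (m + 1)).hom z = 0 := by
      refine ((ModuleCat.mono_iff_injective (J.f (m + 1))).1 inferInstance) ?_
      rw [map_zero]
      refine (congr($(J.comm m (m + 1)).hom z)).symm.trans ?_
      change ((mappingCone f').d m (m + 1)).hom ((J.f m).hom z) = 0
      rw [hz]
      exact hz'
    obtain ⟨e, c, y, hy⟩ := hZ t ht z hdz
    let x : Fm ⟶ (mappingCone f').X (m - 1) :=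
      (singleObjXSelf (ComplexShape.up ℤ) (m + 1) Fm).inv ≫
        (CochainComplex.mappingCone.inl g).v (m + 1) m (by omega) ≫
          (CochainComplex.mappingCone.inl f').v m (m - 1) (by omega)
    have hx : x ≫ (mappingCone f').d (m - 1) m = -(Z ≫ J.f m) := by
      have hZ' : Z = g₀ ≫ (CochainComplex.mappingCone.inl f).v (m + 1) m (by omega) +
          q ≫ (CochainComplex.mappingCone.inr f).f m := by
        simp only [g₀, q, Category.assoc]
        rw [← Preadditive.comp_add, CochainComplex.mappingCone.id_X, Category.comp_id]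
      rw [hZ']
      simp only [x, J, CochainComplex.mappingCone.map, Category.assoc,
        CochainComplex.mappingCone.inl_v_d f' m (m - 1) (m + 1) (by omega) (by omega),
        Preadditive.comp_sub, Preadditive.add_comp, CochainComplex.mappingCone.inl_v_desc_f,
        CochainComplex.mappingCone.inr_f_desc_f, Cochain.zero_cochain_comp_v, Cochain.ofHom_v,
        comp_f, id_f, Category.id_comp]
      rw [← Category.assoc ((CochainComplex.mappingCone.inl g).v (m + 1) m _) (f'.f m),
        show (CochainComplex.mappingCone.inl g).v (m + 1) m (by omega) ≫ f'.f m =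
          α.v (m + 1) m (by omega) from
          CochainComplex.mappingCone.inl_v_desc_f g α f hα (m + 1) m (by omega),
        Cochain.single_v, ← Category.assoc ((CochainComplex.mappingCone.inl g).v (m + 1) m _) (E'.d m (m + 1)),
        CochainComplex.mappingCone.inl_v_d g (m + 1) m (m + 1 + 1) (by omega) (by omega),
        single_obj_d, zero_comp, sub_zero, mkHomFromSingle_f]
      simp [j]
      abel
    refine ⟨e, ((J.f (m - 1)).hom y - x.hom c), ?_⟩
    rw [map_sub, ← hz, ← map_smul, hy, map_add]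
    have e1 : ((mappingCone f').d (m - 1) m).hom ((J.f (m - 1)).hom y) =
        (J.f m).hom (((mappingCone f).d (m - 1) m).hom y) := congr($(J.comm (m - 1) m).hom y)
    have e2 : ((mappingCone f').d (m - 1) m).hom (x.hom c) = -((J.f m).hom (Z.hom c)) :=
      congr($(hx).hom c)
    rw [e1, e2]
    abel

section Resolution

variable (fs : List R) (P : CochainComplex (ModuleCat.{u} R) ℤ) (b : ℤ)

/-- A stage of the resolution: exact cone in degrees `> n`, no terms above `b`. -/
structure Stage (n : ℤ) where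
  /-- the complex -/
  E : CochainComplex (ModuleCat.{u} R) ℤ
  /-- the map -/
  f : E ⟶ P
  bdd : IsBddFree E
  above : ∀ i, b < i → IsZero (E.X i)
  exact_cone : ∀ i, n < i → TorsAt fs (mappingCone f) i

variable (hfin : ∀ (E : CochainComplex (ModuleCat.{u} R) ℤ) (f : E ⟶ P) (m : ℤ), IsBddFree E →
  (∀ i, m < i → TorsAt fs (mappingCone f) i) → GenAt fs (mappingCone f) m)

include hfin in
theorem exists_next (n : ℕ) (S : Stage fs P b (b - n)) :
    ∃ (S' : Stage fs P b (b - (n + 1 : ℕ))) (j : S.E ⟶ S'.E),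
      j ≫ S'.f = S.f ∧ ∀ i, b - n < i → IsIso (j.f i) := by
  obtain ⟨E', j, f', hjf, hE', hj, hex⟩ :=
    attach S.f S.bdd (b - n) S.exact_cone (hfin S.E S.f (b - n) S.bdd S.exact_cone)
  refine ⟨⟨E', f', hE', fun i hi => ?_, fun i hi => hex i (by push_cast at hi; omega)⟩, j, hjf, hj⟩
  have := hj i (by omega)
  exact (S.above i hi).of_iso (asIso (j.f i)).symm

variable (hb : ∀ i, b < i → TorsAt fs P i)

include hb in
theorem exists_stage_zero : Nonempty (Stage fs P b (b - (0 : ℕ))) := by
  let Z : CochainComplex (ModuleCat.{u} R) ℤ :=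
    (single (ModuleCat.{u} R) (ComplexShape.up ℤ) b).obj (ModuleCat.of R (Fin 0 → R))
  have hZ : ∀ i, IsZero (Z.X i) := fun i => by
    by_cases h : i = b
    · subst h
      exact (ModuleCat.isZero_of_subsingleton (ModuleCat.of R (Fin 0 → R))).of_iso
        (singleObjXSelf (ComplexShape.up ℤ) i _)
    · exact isZero_single_obj_X _ _ _ _ h
  refine ⟨⟨Z, 0, isBddFree_single b 0, fun i _ => hZ i, fun i hi => ?_⟩⟩
  have hJ : ∀ l, IsIso ((CochainComplex.mappingCone.inr (0 : Z ⟶ P)).f l) := fun l => by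
    refine ⟨(CochainComplex.mappingCone.snd (0 : Z ⟶ P)).v l l (add_zero l),
      CochainComplex.mappingCone.inr_f_snd_v _ l, ?_⟩
    refine (CochainComplex.mappingCone.ext_from_iff (0 : Z ⟶ P) (l + 1) l rfl _ _).mpr ⟨?_, ?_⟩
    · exact (hZ (l + 1)).eq_of_src _ _
    · simp
  exact TorsAt.of_isIso_f _ i (hJ _) (hJ _) (hb i (by push_cast at hi; omega))

include hfin hb in
/-- A complex whose cones satisfy the finiteness condition receives a bounded above complex of finite free modules,
with torsion cone. -/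
theorem exists_resolution :
    ∃ (E : CochainComplex (ModuleCat.{u} R) ℤ) (f : E ⟶ P), DRing.VanishesAbove E b ∧
      DRing.TermwiseFiniteFree E ∧ ∀ i, TorsAt fs (mappingCone f) i := by
  classical
  choose nx nj hnj hni using fun (n : ℕ) (S : Stage fs P b (b - n)) => exists_next fs P b hfin n S
  obtain ⟨S₀⟩ := exists_stage_zero fs P b hb
  let S : ∀ n : ℕ, Stage fs P b (b - n) := fun n => Nat.rec S₀ (fun n S => nx n S) n
  let F : ℕ ⥤ CochainComplex (ModuleCat.{u} R) ℤ :=
    Functor.ofSequence (X := fun n => (S n).E) fun n => nj n (S n)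
  let c : Cocone F :=
    { pt := P
      ι := NatTrans.ofSequence (fun n => (S n).f) fun n => by
        refine Eq.trans ?_ (Category.comp_id _).symm
        refine Eq.trans (congrArg (· ≫ (S (n + 1)).f)
          (Functor.ofSequence_map_homOfLE_succ _ n)) ?_
        exact hnj n (S n) }
  let f : colimit F ⟶ P := colimit.desc F c
  have hconst : ∀ (i : ℤ) (k : ℕ), b + 1 - i ≤ k →
      (F ⋙ eval (ModuleCat.{u} R) (ComplexShape.up ℤ) i).IsEventuallyConstantFrom k := by
    intro i k hk l g
    obtain ⟨d, rfl⟩ := Nat.exists_eq_add_of_le (leOfHom g)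
    obtain rfl : g = homOfLE (Nat.le_add_right k d) := Subsingleton.elim _ _
    induction d with
    | zero => exact inferInstanceAs (IsIso (((F ⋙ eval _ _ i)).map (𝟙 k)))
    | succ d ih =>
      have h1 := ih
      have h2 : IsIso ((F ⋙ eval (ModuleCat.{u} R) (ComplexShape.up ℤ) i).map
          (homOfLE (Nat.le_add_right (k + d) 1))) := by
        change IsIso ((F.map (homOfLE (Nat.le_add_right (k + d) 1))).f i)
        rw [show F.map (homOfLE (Nat.le_add_right (k + d) 1)) = nj (k + d) (S (k + d)) from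
          Functor.ofSequence_map_homOfLE_succ _ (k + d)]
        exact hni (k + d) (S (k + d)) i (by push_cast; omega)
      have e : (homOfLE (Nat.le_add_right k (d + 1)) : k ⟶ k + (d + 1)) =
          homOfLE (Nat.le_add_right k d) ≫ homOfLE (Nat.le_add_right (k + d) 1) := rfl
      rw [e, Functor.map_comp]
      infer_instance
  have hι : ∀ (i : ℤ) (k : ℕ), b + 1 - i ≤ k → IsIso ((colimit.ι F k).f i) := fun i k hk =>
    (hconst i k hk).isIso_ι_of_isColimit
      (isColimitOfPreserves (eval (ModuleCat.{u} R) (ComplexShape.up ℤ) i) (colimit.isColimit F))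
  let ι : ∀ k : ℕ, (S k).E ⟶ colimit F := fun k => colimit.ι F k
  refine ⟨colimit F, f, fun i hi => ?_, fun i => ?_, ?_⟩
  · have : IsIso ((ι 0).f i) := hι i 0 (by push_cast; omega)
    exact ((S 0).above i hi).of_iso (asIso ((ι 0).f i)).symm
  · have : IsIso ((ι (b + 1 - i).toNat).f i) :=
      hι i (b + 1 - i).toNat (Int.self_le_toNat _)
    obtain ⟨a', b', hab, hf⟩ := (S (b + 1 - i).toNat).bdd
    let e : (S (b + 1 - i).toNat).E.X i ≅ (colimit F).X i :=
      asIso ((ι (b + 1 - i).toNat).f i)
    have := (hf i).1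
    have := (hf i).2
    exact ⟨Module.Finite.equiv e.toLinearEquiv, Module.Free.of_equiv e.toLinearEquiv⟩
  · intro i
    have hk := Int.self_le_toNat (b + 2 - i)
    let k := (b + 2 - i).toNat
    let J : mappingCone (S k).f ⟶ mappingCone f :=
      CochainComplex.mappingCone.map (S k).f f (ι k) (𝟙 P)
        (by rw [Category.comp_id]; exact (colimit.ι_desc c k).symm)
    have hJ : ∀ l, i - 1 ≤ l → IsIso (J.f l) := fun l hl => by
      have : IsIso ((ι k).f (l + 1)) := hι (l + 1) k (by omega)
      exact isIso_coneMap_f _ _ _ _ _ l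
    exact TorsAt.of_isIso_f J i (hJ _ (by omega)) (hJ _ (by omega)) ((S k).exact_cone i (by omega))

end Resolution

end Groth.Agent.PCExtLib
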