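import Groth.Agent.PCExtLib.Attach
import Groth.Agent.KoszOrthLib.Extend
import Groth.Agent.KiehlLib.Base
import Groth.Agent.PerfFibreLib.Model

/-!
# Finite free models on quasi-compact opens of affine schemes
-/

set_option autoImplicit false
set_option linter.style.haveILetI false
set_option backward.isDefEq.respectTransparency false
set_option backward.isDefEq.respectTransparency.types false
set_option maxHeartbeats 1000000

universe u

open CategoryTheory CategoryTheory.Limits AlgebraicGeometry CategoryTheory.Pretriangulated TopologicalSpace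
open CochainComplex (mappingCone)

attribute [local instance] HasDerivedCategory.standard

namespace Groth.Agent.PCExtLib

open Groth.Agent.KoszOrthLib Groth.Agent.DRingLib

variable {X : Scheme.{u}} [IsAffine X]

/-- Complexes of modules over `Γ(X, ⊤)` as complexes of `O_X`-modules. -/
noncomputable abbrev cX : CochainComplex (ModuleCat.{u} (AX X)) ℤ ⥤ CochainComplex X.Modules ℤ :=
  (tilde.functor (CommRingCat.of (AX X))).mapHomologicalComplex (ComplexShape.up ℤ) ⋙
    (Scheme.Modules.restrictFunctor X.isoSpec.hom).mapHomologicalComplex (ComplexShape.up ℤ)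

/-- `tX` is computed by `cX`. -/
noncomputable def tXQIso (C : CochainComplex (ModuleCat.{u} (AX X)) ℤ) :
    (tX X).obj (DerivedCategory.Q.obj C) ≅ DCoh.toD X (cX.obj C) :=
  (DCoh.restrictD X.isoSpec.hom).mapIso
      ((tilde.functor (CommRingCat.of (AX X))).mapDerivedCategoryFactors.app C) ≪≫
    (Scheme.Modules.restrictFunctor X.isoSpec.hom).mapDerivedCategoryFactors.app _

/-- A finite free module becomes a free sheaf of modules. -/
theorem exists_freeMod_iso (M : ModuleCat.{u} (AX X)) [Module.Finite (AX X) M] [Module.Free (AX X) M] :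
    ∃ n : ℕ, Nonempty ((Scheme.Modules.restrictFunctor X.isoSpec.hom).obj
      ((tilde.functor (CommRingCat.of (AX X))).obj M) ≅ FlatMod.freeMod X n) := by
  classical
  let b := Module.Free.chooseBasis (AX X) M
  let n := Fintype.card (Module.Free.ChooseBasisIndex (AX X) M)
  let f : Fin n → ModuleCat.{u} (AX X) := fun _ => ModuleCat.of (AX X) (AX X)
  let eM : M ≅ ∐ f := (b.reindex (Fintype.equivFin _)).equivFun.toModuleIso ≪≫
    (ModuleCat.biproductIsoPi f).symm ≪≫ biproduct.isoCoproduct.{0, u} f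
  let θ : (tilde.functor (CommRingCat.of (AX X))).obj (∐ f) ≅
      FlatMod.freeMod (Spec (CommRingCat.of (AX X))) n :=
    PreservesCoproduct.iso (tilde.functor (CommRingCat.of (AX X))) f ≪≫ Sigma.mapIso fun _ => tildeSelf
  exact ⟨n, ⟨(Scheme.Modules.restrictFunctor X.isoSpec.hom).mapIso
      ((tilde.functor (CommRingCat.of (AX X))).mapIso eM ≪≫ θ) ≪≫
    (Scheme.Modules.restrictFunctorIsoPullback X.isoSpec.hom).app _ ≪≫
    KFlatLib.pullFreeIso X.isoSpec.hom n⟩⟩

/-- Torsion cohomology is vanishing on the complement of the zero locus. -/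
theorem forall_torsion_iff_isZero (U : X.Opens) {fs : List (AX X)}
    (hfs : (U : Set X)ᶜ = X.zeroLocus (U := ⊤) {a : Γ(X, ⊤) | a ∈ fs})
    (C : DerivedCategory (ModuleCat.{u} (AX X))) (i : ℤ) :
    (∀ f ∈ fs, ∀ m : (DerivedCategory.homologyFunctor (ModuleCat.{u} (AX X)) i).obj C, ∃ e : ℕ, f ^ e • m = 0) ↔
      IsZero (DCoh.HD ((DCoh.restrictD U.ι).obj ((tX X).obj C)) i) := by
  rw [DCohRestrLib.isZero_iff_support_empty, DCohRestrLib.support_HD_restrictD,
    Set.eq_empty_iff_forall_notMem]
  constructor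
  · intro h v hv
    have h1 : (U.ι v : X) ∉ (U : Set X)ᶜ := fun h' => h' v.2
    rw [hfs, mem_zeroLocus_iff_list] at h1
    push Not at h1
    obtain ⟨f, hf, hfv⟩ := h1
    exact (torsion_iff_support i C f).1 (h f hf) _ hfv hv
  · intro h f hf
    refine (torsion_iff_support i C f).2 fun x hxf hx => ?_
    have hxU : x ∈ U := by
      by_contra hxU
      have h1 : x ∈ (U : Set X)ᶜ := hxU
      rw [hfs, mem_zeroLocus_iff_list] at h1
      exact h1 f hf hxf
    exact h ⟨x, hxU⟩ hx

/-- Torsion cohomology of a complex is vanishing on the complement of the zero locus. -/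
theorem torsAt_iff_isZero (U : X.Opens) {fs : List (AX X)}
    (hfs : (U : Set X)ᶜ = X.zeroLocus (U := ⊤) {a : Γ(X, ⊤) | a ∈ fs})
    (C : CochainComplex (ModuleCat.{u} (AX X)) ℤ) (i : ℤ) :
    TorsAt fs C i ↔
      IsZero (DCoh.HD ((DCoh.restrictD U.ι).obj ((tX X).obj (DerivedCategory.Q.obj C))) i) := by
  rw [torsAt_iff, ← forall_torsion_iff_isZero U hfs]
  let e := ((DerivedCategory.homologyFunctorFactors (ModuleCat.{u} (AX X)) i).app C).toLinearEquiv
  refine forall_congr' fun f => forall_congr' fun _ => ⟨fun h m => ?_, fun h x => ?_⟩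
  · obtain ⟨k, hk⟩ := h (e m)
    exact ⟨k, e.injective (by rw [map_smul, map_zero]; exact hk)⟩
  · obtain ⟨k, hk⟩ := h (e.symm x)
    exact ⟨k, e.symm.injective (by rw [map_smul, map_zero]; exact hk)⟩

/-- A pseudo-coherent object on a quasi-compact open has a bounded above finite free model on the affine scheme. -/
theorem exists_finFree_model (U : X.Opens) (hU : IsCompact (U : Set X)) (E : DCoh.D (U : Scheme.{u}))
    (hE : ∀ m : ℤ, DCoh.IsPseudoCoherentD m E) :
    ∃ (E₀ : CochainComplex (ModuleCat.{u} (AX X)) ℤ) (b : ℤ), DRing.VanishesAbove E₀ b ∧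
      DRing.TermwiseFiniteFree E₀ ∧
      Nonempty ((DCoh.restrictD U.ι).obj ((tX X).obj (DerivedCategory.Q.obj E₀)) ≅ E) := by
  classical
  let j := U.ι
  haveI := DCohRestrLib.hasRpush j
  haveI : CompactSpace (U : Scheme.{u}) := isCompact_iff_compactSpace.mp hU
  haveI : QuasiCompact j := quasiCompact_of_compactSpace _
  obtain ⟨fs, hfs⟩ := exists_list_zeroLocus (T := (U : Set X)ᶜ) U.2.isClosed_compl (by rwa [compl_compl])
  obtain ⟨N, ⟨eN⟩⟩ := exists_tX_iso (QRlimLib.isQCohD_rpush j (KiehlLib.isQCohD_of_isPC hE))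
  haveI := isIso_counit j (restrictRpushAdj j)
  let P := DerivedCategory.Q.objPreimage N
  let eP : (DCoh.restrictD j).obj ((tX X).obj (DerivedCategory.Q.obj P)) ≅ E :=
    (DCoh.restrictD j).mapIso ((tX X).mapIso (DerivedCategory.Q.objObjPreimageIso N) ≪≫ eN) ≪≫
      (asIso (restrictRpushAdj j).counit).app E
  obtain ⟨b, hb⟩ := KiehlLib.exists_isLE_of_isPC (hE 0)
  have hbP : ∀ i, b < i → TorsAt fs P i := fun i hi => by
    haveI := hb
    exact (torsAt_iff_isZero U hfs P i).2 ((DerivedCategory.isZero_of_isLE E b i hi).of_iso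
      ((DerivedCategory.homologyFunctor (U : Scheme.{u}).Modules i).mapIso eP))
  have hfin : ∀ (G : CochainComplex (ModuleCat.{u} (AX X)) ℤ) (φ : G ⟶ P) (m : ℤ), IsBddFree G →
      (∀ i, m < i → TorsAt fs (mappingCone φ) i) → GenAt fs (mappingCone φ) m := by
    intro G φ m hG ht
    have hPC : DCoh.IsPseudoCoherentD m
        ((DCoh.restrictD j).obj ((tX X).obj (DerivedCategory.Q.obj (mappingCone φ)))) :=
      PerfLib.isPC_obj₃ _ ((tX X ⋙ DCoh.restrictD j).map_distinguished _
        (DerivedCategory.mappingCone_triangle_distinguished φ)) m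
        (isPC_restrictD j (isPC_tX (isPseudoCoherent_bddFree hG (m + 1))))
        (PerfLib.isPC_of_iso eP.symm (hE m))
    have hS : ∀ f : {f // f ∈ fs}, ∃ S : Finset ((mappingCone φ).homology m),
        ∀ x, ∃ e : ℕ, f.1 ^ e • x ∈ Submodule.span (AX X) (S : Set ((mappingCone φ).homology m)) := by
      rintro ⟨f, hf⟩
      have hle : X.basicOpen f ≤ U := fun x hx => by
        by_contra hxU
        have h1 : x ∈ (U : Set X)ᶜ := hxU
        rw [hfs, mem_zeroLocus_iff_list] at h1
        exact h1 f hf hx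
      exact exists_finset_of_isPseudoCoherent f _ m (isPC_extCx_of_restrictD U f hle _ m hPC)
        fun i hi x => (torsAt_iff fs _ i).1 (ht i hi) f hf x
    choose S hS using hS
    refine genAt_of_finset fs _ m (fs.attach.toFinset.biUnion S) fun f hf x => ?_
    obtain ⟨e, he⟩ := hS ⟨f, hf⟩ x
    exact ⟨e, Submodule.span_mono (fun a ha => Finset.mem_biUnion.2
      ⟨⟨f, hf⟩, List.mem_toFinset.2 (List.mem_attach _ _), ha⟩) he⟩
  obtain ⟨E₀, φ, hE₀b, hE₀f, hcone⟩ := exists_resolution fs P b hfin hbP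
  refine ⟨E₀, b, hE₀b, hE₀f, ?_⟩
  have hT := (tX X ⋙ DCoh.restrictD j).map_distinguished _
    (DerivedCategory.mappingCone_triangle_distinguished φ)
  haveI : IsIso ((DCoh.restrictD j).map ((tX X).map (DerivedCategory.Q.map φ))) :=
    (Triangle.isZero₃_iff_isIso₁ _ hT).1 ((DCohRestrLib.isZero_iff_HD _).2 fun i =>
      (torsAt_iff_isZero U hfs _ i).1 (hcone i))
  exact ⟨asIso ((DCoh.restrictD j).map ((tX X).map (DerivedCategory.Q.map φ))) ≪≫ eP⟩

end Groth.Agent.PCExtLib
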