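import Groth.Agent.PCExtLib.Model
import Groth.Agent.DRingLib.AmplitudeTri
import Groth.Agent.DRingLib.ProjAmplitude
import Groth.Agent.K0PerfLib.Affine
import Groth.Agent.PerfFibreLib.Single
import Groth.Agent.PerfLib.Brutal

/-!
# Stupid truncations of finite free models of perfect objects
-/

set_option autoImplicit false
set_option linter.style.haveILetI false
set_option backward.isDefEq.respectTransparency false
set_option backward.isDefEq.respectTransparency.types false
set_option maxHeartbeats 1000000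

universe u

open CategoryTheory CategoryTheory.Limits AlgebraicGeometry CategoryTheory.Pretriangulated TopologicalSpace
open CochainComplex (mappingCone)

attribute [local instance] HasDerivedCategory.standard

namespace Groth.Agent.PCExtLib

open Groth.Agent.KoszOrthLib Groth.Agent.DRingLib

instance preservesFiniteLimits_tilde_of (B : Type u) [CommRing B] :
    PreservesFiniteLimits (tilde.functor (CommRingCat.of B)) :=
  HensSchLib.tilde_preservesFiniteLimits _

section Ring

variable {A : Type u} [CommRing A] {E : CochainComplex (ModuleCat.{u} A) ℤ} {b : ℤ}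

theorem isBddFree_trunc (hb : DRing.VanishesAbove E b) (hf : DRing.TermwiseFiniteFree E) (n : ℤ) :
    IsBddFree (PerfLib.Brutal.trunc E n) := by
  refine ⟨n, b, fun i hi => ?_, fun i => ?_⟩
  · by_cases h : n ≤ i
    · haveI := PerfLib.Brutal.isIso_ι_f E n h
      exact (hb i (by omega)).of_iso (asIso ((PerfLib.Brutal.ι E n).f i))
    · exact PerfLib.Brutal.isZero_X E n (by omega)
  · by_cases h : n ≤ i
    · haveI := PerfLib.Brutal.isIso_ι_f E n h
      haveI := (hf i).1
      haveI := (hf i).2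
      exact ⟨Module.Finite.equiv (asIso ((PerfLib.Brutal.ι E n).f i)).toLinearEquiv.symm,
        Module.Free.of_equiv (asIso ((PerfLib.Brutal.ι E n).f i)).toLinearEquiv.symm⟩
    · have hz := PerfLib.Brutal.isZero_X E n (i := i) (by omega)
      exact ⟨finite_of_isZero hz, free_of_isZero hz⟩

theorem isZero_homology_cone_trunc (n i : ℤ) (hi : n ≤ i) :
    IsZero ((mappingCone (PerfLib.Brutal.ι E n)).homology i) := by
  refine isZero_homology_of_Hn ((Approx.iff_cone n _ (DerivedCategory.mappingCone_triangle_distinguished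
    (PerfLib.Brutal.ι E n))).1 ⟨fun j hj => ?_, ?_⟩ i hi)
  · exact (NatIso.isIso_map_iff (DerivedCategory.homologyFunctorFactors (ModuleCat.{u} A) j) _).mpr
      (PerfLib.Brutal.isIso_homologyMap E n hj)
  · let e := DerivedCategory.homologyFunctorFactors (ModuleCat.{u} A) n
    exact ((MorphismProperty.epimorphisms _).arrow_mk_iso_iff
      (Arrow.isoMk (e.app _) (e.app E) (e.hom.naturality (PerfLib.Brutal.ι E n)).symm)).mpr
      (PerfLib.Brutal.epi_homologyMap E n)

theorem isPerfect_of_isBddFree (h : IsBddFree E) : DRing.IsPerfect A (DerivedCategory.Q.obj E) := by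
  obtain ⟨a, b, hv, hf⟩ := h
  exact ⟨E, a, b, hv, fun i => ⟨(hf i).1, by haveI := (hf i).2; infer_instance⟩, ⟨Iso.refl _⟩⟩

/-- Over a ring, the cone of a low stupid truncation is a finite projective module in one degree. -/
theorem exists_single_model {B : Type u} [CommRing B] (φ : A →+* B) (hφ : φ.Flat)
    (hb : DRing.VanishesAbove E b) (hf : DRing.TermwiseFiniteFree E)
    (hP : DRing.IsPerfect B (DerivedCategory.Q.obj ((extCx φ).obj E))) :
    ∃ a : ℤ, ∀ n, n ≤ a → ∃ S : CochainComplex (ModuleCat.{u} B) ℤ,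
      DRing.VanishesOutside S (n - 1) (n - 1) ∧ DRing.TermwiseFiniteProjective S ∧
      Nonempty (DerivedCategory.Q.obj S ≅
        DerivedCategory.Q.obj ((extCx φ).obj (mappingCone (PerfLib.Brutal.ι E n)))) := by
  obtain ⟨a, c, hac⟩ := hasTorAmplitudeIn_of_isPerfect hP
  refine ⟨a, fun n hn => ?_⟩
  let ι := PerfLib.Brutal.ι E n
  let e : DerivedCategory.Q.obj (mappingCone ((extCx φ).map ι)) ≅
      DerivedCategory.Q.obj ((extCx φ).obj (mappingCone ι)) :=
    DerivedCategory.Q.mapIso (CochainComplex.mappingCone.mapHomologicalComplexIso ι _).symm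
  have hT := DerivedCategory.mappingCone_triangle_distinguished ((extCx φ).map ι)
  have hE' := isBddFree_trunc hb hf n
  have hfree : ∀ i, Module.Flat B (((extCx φ).obj (PerfLib.Brutal.trunc E n)).X i) := fun i => by
    letI := φ.toAlgebra
    obtain ⟨-, -, -, hE'f⟩ := hE'
    haveI := (hE'f i).2
    exact Module.Flat.of_linearEquiv (DRingLib.extendScalarsEquiv ((PerfLib.Brutal.trunc E n).X i))
  have h₁ : DRing.HasTorAmplitudeIn B (n - 1 + 1) (max (max c b) n + 1)
      (DerivedCategory.Q.obj ((extCx φ).obj (PerfLib.Brutal.trunc E n))) := by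
    refine ⟨_, fun i hi => ?_, hfree, ⟨Iso.refl _⟩⟩
    refine ((ModuleCat.extendScalars.{u, u, u} φ).map_isZero ?_)
    rcases hi with hi | hi
    · exact PerfLib.Brutal.isZero_X E n (by omega)
    · haveI := PerfLib.Brutal.isIso_ι_f E n (show n ≤ i by omega)
      exact (hb i (by omega)).of_iso (asIso ((PerfLib.Brutal.ι E n).f i))
  have h₃ := hasTorAmplitudeIn_obj₃ _ hT h₁ (hasTorAmplitudeIn_mono (by omega) (by omega) hac)
  have hperf := DRingLib.isPerfect_obj₃ _ hT
    (show DRing.IsPerfect B (DerivedCategory.Q.obj ((extCx φ).obj (PerfLib.Brutal.trunc E n))) from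
      isPerfect_iff.2 ⟨fun m => forall_isPseudoCoherent_of_projective _ b (fun i hi => ?_) (fun i => ?_)
        (Iso.refl _) m, _, _, h₁⟩) hP
  · have hK : ∀ i, n - 1 < i → IsZero ((Hn B i).obj
        (DerivedCategory.Q.obj (mappingCone ((extCx φ).map ι)))) := fun i hi => by
      obtain ⟨eh⟩ := DRingLib.exists_homology_extCx_iso φ hφ (mappingCone ι) i
      exact (isZero_Hn_of_homology (((ModuleCat.extendScalars.{u, u, u} φ).map_isZero
        (isZero_homology_cone_trunc n i (by omega))).of_iso eh)).of_iso ((Hn B i).mapIso e)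
    obtain ⟨S, hS₁, hS₂, ⟨eS⟩⟩ := exists_finiteProjective_of_amplitude
      (isPseudoCoherent_of_isPerfect hperf _) (hasTorAmplitudeIn_of_Hn_bound h₃ hK)
    exact ⟨S, hS₁, hS₂, ⟨eS ≪≫ e⟩⟩
  · refine (ModuleCat.extendScalars.{u, u, u} φ).map_isZero ?_
    by_cases h : n ≤ i
    · haveI := PerfLib.Brutal.isIso_ι_f E n h
      exact (hb i hi).of_iso (asIso ((PerfLib.Brutal.ι E n).f i))
    · exact PerfLib.Brutal.isZero_X E n (by omega)
  · letI := φ.toAlgebra
    obtain ⟨-, -, -, hE'f⟩ := hE'
    haveI := (hE'f i).1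
    haveI := (hE'f i).2
    let l := DRingLib.extendScalarsEquiv (A := A) (B := B) ((PerfLib.Brutal.trunc E n).X i)
    exact ⟨Module.Finite.equiv l.symm, Module.Projective.of_equiv l.symm⟩

theorem homology_fproj_of_single {S : CochainComplex (ModuleCat.{u} A) ℤ} {m : ℤ}
    (hv : DRing.VanishesOutside S m m) (hp : DRing.TermwiseFiniteProjective S) :
    Module.Finite A (S.homology m) ∧ Module.Projective A (S.homology m) := by
  have hl : IsZero (S.sc m).X₁ := hv _ (Or.inl (by simp))
  have hr : IsZero (S.sc m).X₃ := hv _ (Or.inr (by simp))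
  let e : S.homology m ≅ S.X m :=
    (ShortComplex.HomologyData.ofZeros (S.sc m) (hl.eq_of_src _ _) (hr.eq_of_tgt _ _)).left.homologyIso
  haveI := (hp m).1
  haveI := (hp m).2
  exact ⟨Module.Finite.equiv e.toLinearEquiv.symm, Module.Projective.of_equiv e.toLinearEquiv.symm⟩

end Ring

variable {X : Scheme.{u}} [IsAffine X]

/-- Restriction to a principal open inside `U` is localisation. -/
theorem exists_basicOpen_chart (U : X.Opens) (f : AX X) (hf : X.basicOpen f ≤ U) :
    ∃ (l : Spec (CommRingCat.of (Localization.Away f)) ⟶ (U : Scheme.{u})) (_ : IsOpenImmersion l),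
      (∀ v : (U : Scheme.{u}), (U.ι v : X) ∈ X.basicOpen f → v ∈ Set.range l) ∧
      ∀ K : CochainComplex (ModuleCat.{u} (AX X)) ℤ,
        Nonempty ((DCoh.restrictD l).obj ((DCoh.restrictD U.ι).obj ((tX X).obj (DerivedCategory.Q.obj K))) ≅
          (tD (Localization.Away f)).obj
            (DerivedCategory.Q.obj ((extCx (algebraMap (AX X) (Localization.Away f))).obj K))) := by
  haveI : PreservesFiniteLimits (tilde.functor (CommRingCat.of (Localization.Away f))) :=
    HensSchLib.tilde_preservesFiniteLimits _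
  let φ := algebraMap (AX X) (Localization.Away f)
  haveI : IsOpenImmersion (Spec.map (CommRingCat.ofHom φ)) := IsOpenImmersion.of_isLocalization f
  let s := Spec.map (CommRingCat.ofHom φ)
  let j₀ := s ≫ X.isoSpec.inv
  have hs : ∀ q, X.isoSpec.hom (j₀ q) = s q := fun q => by
    change (j₀ ≫ X.isoSpec.hom) q = s q
    rw [Category.assoc, Iso.inv_hom_id, Category.comp_id]
    rfl
  have hr : Set.range j₀ ⊆ Set.range U.ι := by
    rintro _ ⟨q, rfl⟩
    rw [Scheme.Opens.range_ι]
    refine hf ((notMem_asIdeal_iff f _).1 ?_)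
    rw [hs]
    exact fun hm => q.isPrime.ne_top
      (Ideal.eq_top_of_isUnit_mem _ hm (IsLocalization.Away.algebraMap_isUnit f))
  let l := IsOpenImmersion.lift U.ι j₀ hr
  haveI : IsOpenImmersion l :=
    haveI : IsOpenImmersion (l ≫ U.ι) := by rw [IsOpenImmersion.lift_fac]; infer_instance
    IsOpenImmersion.of_comp l U.ι
  refine ⟨l, inferInstance, fun v hv => ?_, fun K => ?_⟩
  · have h1 : (X.isoSpec.hom (U.ι v) : PrimeSpectrum (AX X)) ∈
        Set.range (PrimeSpectrum.comap φ) := by
      rw [PrimeSpectrum.localization_away_comap_range (Localization.Away f) f]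
      exact (notMem_asIdeal_iff f _).2 hv
    obtain ⟨q, hq⟩ := h1
    refine ⟨q, U.ι.isOpenEmbedding.injective ?_⟩
    have h2 : U.ι (l q) = j₀ q := by
      change (l ≫ U.ι) q = j₀ q
      rw [IsOpenImmersion.lift_fac]
    change U.ι (l q) = U.ι v
    rw [h2]
    refine (Scheme.homeoOfIso X.isoSpec).injective ?_
    change X.isoSpec.hom (j₀ q) = X.isoSpec.hom (U.ι v)
    rw [hs]
    exact hq
  · let M := (tX X).obj (DerivedCategory.Q.obj K)
    obtain ⟨c₁⟩ := PerfLib.nonempty_resD_comp l U.ι M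
    obtain ⟨c₂⟩ := PerfLib.nonempty_resD_congr (IsOpenImmersion.lift_fac U.ι j₀ hr) M
    obtain ⟨c₃⟩ := PerfLib.nonempty_resD_comp s X.isoSpec.inv M
    obtain ⟨c₄⟩ := nonempty_restrictD_inv_tX (DerivedCategory.Q.obj K)
    obtain ⟨c₅⟩ := TildePCLib.nonempty_resD_tilde φ K
    exact ⟨c₁.symm ≪≫ c₂ ≪≫ c₃ ≪≫ (PerfLib.resD s).mapIso c₄ ≪≫ c₅⟩

/-- A low stupid truncation of a finite free model differs from it by a vector bundle in one degree. -/
theorem exists_cone_bundle (U : X.Opens) (hU : IsCompact (U : Set X))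
    (E₀ : CochainComplex (ModuleCat.{u} (AX X)) ℤ) {b : ℤ} (hb : DRing.VanishesAbove E₀ b)
    (hf : DRing.TermwiseFiniteFree E₀)
    (hperf : DCoh.IsPerfect ((DCoh.restrictD U.ι).obj ((tX X).obj (DerivedCategory.Q.obj E₀)))) :
    ∃ a : ℤ, ∀ n, n ≤ a →
      FlatMod.IsFinLocFree (DCoh.HD ((DCoh.restrictD U.ι).obj ((tX X).obj
        (DerivedCategory.Q.obj (mappingCone (PerfLib.Brutal.ι E₀ n))))) (n - 1)) ∧
      ∀ i, i ≠ n - 1 → IsZero (DCoh.HD ((DCoh.restrictD U.ι).obj ((tX X).obj
        (DerivedCategory.Q.obj (mappingCone (PerfLib.Brutal.ι E₀ n))))) i) := by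
  classical
  obtain ⟨fs, hfs⟩ := exists_list_zeroLocus (T := (U : Set X)ᶜ) U.2.isClosed_compl (by rwa [compl_compl])
  have hle : ∀ f ∈ fs, X.basicOpen f ≤ U := fun f hf' x hx => by
    by_contra hxU
    have h1 : x ∈ (U : Set X)ᶜ := hxU
    rw [hfs, mem_zeroLocus_iff_list] at h1
    exact h1 f hf' hx
  have hcov : ∀ v : (U : Scheme.{u}), ∃ f ∈ fs, (U.ι v : X) ∈ X.basicOpen f := fun v => by
    have h1 : (U.ι v : X) ∉ (U : Set X)ᶜ := fun h' => h' v.2
    rw [hfs, mem_zeroLocus_iff_list] at h1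
    push Not at h1
    exact h1
  have hloc : ∀ f : {f // f ∈ fs}, ∃ a : ℤ, ∀ n, n ≤ a → ∃ S : CochainComplex (ModuleCat.{u} (Localization.Away f.1)) ℤ,
      DRing.VanishesOutside S (n - 1) (n - 1) ∧ DRing.TermwiseFiniteProjective S ∧
      Nonempty (DerivedCategory.Q.obj S ≅ DerivedCategory.Q.obj
        ((extCx (algebraMap (AX X) (Localization.Away f.1))).obj (mappingCone (PerfLib.Brutal.ι E₀ n)))) := by
    rintro ⟨f, hf'⟩
    haveI : PreservesFiniteLimits (tilde.functor (CommRingCat.of (Localization.Away f))) :=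
      HensSchLib.tilde_preservesFiniteLimits _
    obtain ⟨l, hl, -, hK⟩ := exists_basicOpen_chart U f (hle f hf')
    refine exists_single_model _
      (RingHom.flat_algebraMap_iff.2 (IsLocalization.flat _ (Submonoid.powers f))) hb hf ?_
    obtain ⟨c⟩ := hK E₀
    exact TildePCLib.isPerfect_of_tildeD (PerfLib.isPerfect_of_iso c (isPerfect_restrictD l hperf))
  choose a ha using hloc
  refine ⟨-((fs.attach.map fun f => (a f).natAbs).sum : ℕ), fun n hn => ?_⟩
  have hn' : ∀ f : {f // f ∈ fs}, n ≤ a f := fun f => by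
    have h1 : (a f).natAbs ≤ (fs.attach.map fun f => (a f).natAbs).sum :=
      List.le_sum_of_mem (List.mem_map.2 ⟨f, List.mem_attach _ _, rfl⟩)
    omega
  let C := mappingCone (PerfLib.Brutal.ι E₀ n)
  let Y := (DCoh.restrictD U.ι).obj ((tX X).obj (DerivedCategory.Q.obj C))
  have key : ∀ v : (U : Scheme.{u}), ∃ (B : Type u) (_ : CommRing B)
      (l : Spec (CommRingCat.of B) ⟶ (U : Scheme.{u})) (_ : IsOpenImmersion l)
      (S : CochainComplex (ModuleCat.{u} B) ℤ), v ∈ Set.range l ∧
      DRing.VanishesOutside S (n - 1) (n - 1) ∧ DRing.TermwiseFiniteProjective S ∧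
      ∀ i, Nonempty ((DCoh.HD Y i).restrict l ≅ (tilde.functor (CommRingCat.of B)).obj (S.homology i)) := by
    intro v
    obtain ⟨f, hf', hv⟩ := hcov v
    haveI : PreservesFiniteLimits (tilde.functor (CommRingCat.of (Localization.Away f))) :=
      HensSchLib.tilde_preservesFiniteLimits _
    obtain ⟨l, hl, hr, hK⟩ := exists_basicOpen_chart U f (hle f hf')
    obtain ⟨S, hS₁, hS₂, ⟨eS⟩⟩ := ha ⟨f, hf'⟩ n (hn' _)
    obtain ⟨c⟩ := hK C
    exact ⟨_, inferInstance, l, hl, S, hr v hv, hS₁, hS₂, fun i =>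
      ⟨(DCohRestrLib.restrictHDIso l Y i).symm ≪≫
        (DerivedCategory.homologyFunctor (Spec (CommRingCat.of (Localization.Away f))).Modules i).mapIso
          (c ≪≫ (tD (Localization.Away f)).mapIso eS.symm) ≪≫
        TildeDerLib.tildeHIso (CommRingCat.of (Localization.Away f)) i _ ≪≫
        (tilde.functor _).mapIso ((DerivedCategory.homologyFunctorFactors _ i).app S)⟩⟩
  refine ⟨PerfFibreLib.isFinLocFree_of_openCover fun v => ?_, fun i hi => ?_⟩
  · obtain ⟨B, _, l, hl, S, hv, hS₁, hS₂, hiso⟩ := key v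
    obtain ⟨e⟩ := hiso (n - 1)
    exact ⟨_, l, hl, hv, PerfLib.isFinLocFree_of_iso e.symm
      (K0PerfLib.isFinLocFree_tilde (CommRingCat.of B) (homology_fproj_of_single hS₁ hS₂))⟩
  · rw [DCohRestrLib.isZero_iff_support_empty, Set.eq_empty_iff_forall_notMem]
    intro v hv'
    obtain ⟨B, _, l, hl, S, hv, hS₁, -, hiso⟩ := key v
    obtain ⟨e⟩ := hiso i
    have hz : IsZero ((DCoh.HD Y i).restrict l) :=
      ((tilde.functor (CommRingCat.of B)).map_isZero ((HomologicalComplex.exactAt_iff_isZero_homology _ i).1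
        (ShortComplex.exact_of_isZero_X₂ _ (hS₁ i (by omega))))).of_iso e
    obtain ⟨w, rfl⟩ := hv
    have := (DCohRestrLib.isZero_iff_support_empty _).1 hz
    rw [Set.eq_empty_iff_forall_notMem] at this
    exact this w fun h => hv' ((DCohRestrLib.subsingleton_stalk_restrict l _ w).1 h)

end Groth.Agent.PCExtLib
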